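import Cfsg.Agent.Helper61.Sr.Basic

/-!
# Cores of (R1a) and (C3a) for helper61's S3572 (helper34)

The statements take the lemmas of the skeleton they use as hypotheses, so that this file depends only
on `Cfsg.Agent.Helper61.Sr.Basic`.
-/

set_option autoImplicit false

namespace Cfsg.Agent.Helper34.Sr

open Finset DihedralGroup Cfsg.Agent.Helper61.Sr Cfsg.Agent.Helper61.Dih

variable {n : ℕ} [NeZero n] (S : SRing (DihedralGroup n))

/-- if all reflection coefficients of `f` vanish mod `p`, all coefficients outside `1` do -/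
theorem coeff_class_empty
    (hF1 : ∀ T : Finset (DihedralGroup n), S.IsSet T → T.Nonempty → (1 : DihedralGroup n) ∉ T →
      ∃ j : ZMod n, sr j ∈ T)
    (p : ℕ) (f : MonoidAlgebra ℤ (DihedralGroup n))
    (hf : S.Inv f) (href : ∀ x : ZMod n, ((f.coeff (sr x) : ℤ) : ZMod p) = 0)
    (y : DihedralGroup n) (hy : y ≠ 1) : ((f.coeff y : ℤ) : ZMod p) = 0 := by
  classical
  by_contra hc
  set c : ZMod p := ((f.coeff y : ℤ) : ZMod p) with hcdef
  set U : Finset (DihedralGroup n) :=
    (univ.filter fun z => ((f.coeff z : ℤ) : ZMod p) = c).erase 1 with hU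
  have hUset : S.IsSet U :=
    Cfsg.Agent.Helper61.Sr.isSet_erase_one S
      (Cfsg.Agent.Helper61.Sr.isSet_filter S hf (fun z : ℤ => (z : ZMod p) = c))
  have hyU : y ∈ U := by
    rw [hU, mem_erase]
    refine ⟨hy, ?_⟩
    rw [mem_filter]
    exact ⟨mem_univ _, rfl⟩
  have h1U : (1 : DihedralGroup n) ∉ U := by
    rw [hU]
    exact notMem_erase _ _
  obtain ⟨j, hj⟩ := hF1 U hUset ⟨y, hyU⟩ h1U
  rw [hU, mem_erase, mem_filter] at hj
  apply hc
  rw [← hj.2.2]
  exact href j

/-- core of (R1a) -/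
theorem R1a_core (p : ℕ) [Fact p.Prime] (hpn : p ∣ n)
    (hF1 : ∀ T : Finset (DihedralGroup n), S.IsSet T → T.Nonempty → (1 : DihedralGroup n) ∉ T →
      ∃ j : ZMod n, sr j ∈ T)
    (T : Finset (DihedralGroup n)) (hT : S.IsSet T)
    (hrefl : ∀ x : ZMod n,
      ((((ind T : MonoidAlgebra ℤ (DihedralGroup n)) ^ p).coeff (sr x) : ℤ) : ZMod p) = 0)
    (hrotc : ∀ x : ZMod n,
      ((((ind T : MonoidAlgebra ℤ (DihedralGroup n)) ^ p).coeff (r x) : ℤ) : ZMod p) =
        (((rotPart T).filter (fun i => p • i = x)).card : ZMod p)) :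
    PerOff p (rotPart T) := by
  classical
  have hf : S.Inv (ind T ^ p) :=
    Cfsg.Agent.Helper61.Sr.inv_pow S (Cfsg.Agent.Helper61.Sr.inv_ind S hT) p
  have hne1 : ∀ x : ZMod n, x ≠ 0 → (r x : DihedralGroup n) ≠ 1 := by
    intro x hx h
    rw [one_def] at h
    exact hx (r.inj h)
  intro x u hu hx
  have hdiv : ∀ y : ZMod n, y ≠ 0 → p ∣ ((rotPart T).filter (fun i => p • i = y)).card := by
    intro y hy
    have h0 := coeff_class_empty S hF1 p _ hf hrefl (r y) (hne1 y hy)
    rw [hrotc y] at h0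
    exact (ZMod.natCast_eq_zero_iff _ _).1 h0
  exact Cfsg.Agent.Helper61.Dih.P2 p hpn hdiv x u hu hx

/-- if all rotation coefficients of `f` vanish mod `p`, all coefficients do -/
theorem coeff_class_empty'
    (hF1' : ∀ T : Finset (DihedralGroup n), S.IsSet T → T.Nonempty → (1 : DihedralGroup n) ∉ T →
      ∃ i : ZMod n, r i ∈ T)
    (p : ℕ) (f : MonoidAlgebra ℤ (DihedralGroup n)) (hf : S.Inv f)
    (hrot : ∀ x : ZMod n, ((f.coeff (r x) : ℤ) : ZMod p) = 0)
    (y : DihedralGroup n) : ((f.coeff y : ℤ) : ZMod p) = 0 := by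
  classical
  by_contra hc
  set c : ZMod p := ((f.coeff y : ℤ) : ZMod p) with hcdef
  set U : Finset (DihedralGroup n) :=
    univ.filter fun z => ((f.coeff z : ℤ) : ZMod p) = c with hU
  have hUset : S.IsSet U :=
    Cfsg.Agent.Helper61.Sr.isSet_filter S hf (fun z : ℤ => (z : ZMod p) = c)
  have hyU : y ∈ U := by
    rw [hU, mem_filter]
    exact ⟨mem_univ _, rfl⟩
  have h1U : (1 : DihedralGroup n) ∉ U := by
    rw [hU, mem_filter, one_def]
    rintro ⟨-, h⟩
    rw [hrot 0] at h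
    exact hc h.symm
  obtain ⟨i, hi⟩ := hF1' U hUset ⟨y, hyU⟩ h1U
  rw [hU, mem_filter] at hi
  apply hc
  rw [← hi.2]
  exact hrot i

/-- the fibre counts of a periodic set are divisible by `p` -/
theorem per_fibre_dvd (p : ℕ) [Fact p.Prime] (hpn : p ∣ n) (A : Finset (ZMod n)) (hA : Per p A)
    (x : ZMod n) : p ∣ (A.filter (fun i => p • i = x)).card := by
  classical
  by_cases hex : ∃ i ∈ A, p • i = x
  · obtain ⟨i, hiA, hix⟩ := hex
    have : A.filter (fun j => p • j = x) = univ.filter (fun j : ZMod n => p • j = p • i) := by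
      ext j
      simp only [mem_filter, mem_univ, true_and]
      constructor
      · rintro ⟨-, hj⟩
        rw [hj, hix]
      · intro hj
        refine ⟨?_, by rw [hj, hix]⟩
        have hu : p • (j - i) = 0 := by rw [smul_sub, hj, sub_self]
        have := (hA i (j - i) hu).1 hiA
        rwa [add_sub_cancel] at this
    rw [this, Cfsg.Agent.Helper66.Dih.card_fibre p hpn i]
  · have : A.filter (fun j => p • j = x) = ∅ := by
      rw [filter_eq_empty_iff]
      intro j hj hjx
      exact hex ⟨j, hj, hjx⟩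
    rw [this, card_empty]
    exact dvd_zero p

/-- core of (C3a) -/
theorem C3a_core (p : ℕ) [Fact p.Prime] (hp2 : p ≠ 2) (hpn : p ∣ n)
    (hF1' : ∀ T : Finset (DihedralGroup n), S.IsSet T → T.Nonempty → (1 : DihedralGroup n) ∉ T →
      ∃ i : ZMod n, r i ∈ T)
    (T : Finset (DihedralGroup n)) (hT : S.IsSet T) (hinv : ∀ d ∈ T, d⁻¹ ∈ T)
    (hA : Per p (rotPart T))
    (hsum : ∑ y, ((ind T : MonoidAlgebra ℤ (DihedralGroup n)) ^ p).coeff y = (T.card : ℤ) ^ p) :
    p ∣ T.card := by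
  classical
  have hp : p.Prime := Fact.out
  have hf : S.Inv (ind T ^ p) :=
    Cfsg.Agent.Helper61.Sr.inv_pow S (Cfsg.Agent.Helper61.Sr.inv_ind S hT) p
  have hrot : ∀ x : ZMod n, ((((ind T : MonoidAlgebra ℤ (DihedralGroup n)) ^ p).coeff (r x) : ℤ) :
      ZMod p) = 0 := by
    intro x
    rw [Cfsg.Agent.Helper61.Dih.coeff_pow_rot T hinv p hp2 x]
    exact (ZMod.natCast_eq_zero_iff _ _).2 (per_fibre_dvd p hpn _ hA x)
  have hall := coeff_class_empty' S hF1' p _ hf hrot
  have hcast : (((T.card : ℤ) ^ p : ℤ) : ZMod p) = 0 := by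
    rw [← hsum, Int.cast_sum]
    exact Finset.sum_eq_zero (fun y _ => hall y)
  rw [Int.cast_pow, Int.cast_natCast] at hcast
  have h0 : (T.card : ZMod p) = 0 := (pow_eq_zero_iff hp.ne_zero).1 hcast
  exact (ZMod.natCast_eq_zero_iff _ _).1 h0

end Cfsg.Agent.Helper34.Sr
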