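import Cfsg.Agent.Helper61.Sr.P1
import Cfsg.Agent.Helper34.Sr.Core

/-!
# (C3a) for helper61's S3572 (helper34)
-/

set_option autoImplicit false

namespace Cfsg.Agent.Helper34.Sr

open Finset DihedralGroup Cfsg.Agent.Helper61.Sr Cfsg.Agent.Helper61.Dih

variable {n : ℕ} [NeZero n] (S : SRing (DihedralGroup n))

/-- (C3a) -/
theorem C3a (hn : 3 ≤ n) (hS : S.IsPrim) (p : ℕ) [Fact p.Prime] (hp2 : p ≠ 2) (hpn : p ∣ n)
    (T : Finset (DihedralGroup n)) (hT : S.IsSet T) (h1 : (1 : DihedralGroup n) ∉ T)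
    (hA : Per p (rotPart T)) : p ∣ T.card :=
  C3a_core S p hp2 hpn (F1' S (by omega) hS) T hT (isSet_inv_mem S hS hT) hA (sum_coeff_pow T p)

end Cfsg.Agent.Helper34.Sr
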