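import Cfsg.Agent.Helper61.Sr.P1
import Cfsg.Agent.Helper67.SrFref
import Cfsg.Agent.Helper34.Sr.Core

/-!
# (R1a) for helper61's S3572 (helper34)
-/

set_option autoImplicit false

namespace Cfsg.Agent.Helper34.Sr

open Finset DihedralGroup Cfsg.Agent.Helper61.Sr Cfsg.Agent.Helper61.Dih

variable {n : ℕ} [NeZero n] (S : SRing (DihedralGroup n))

/-- (R1a) -/
theorem R1a (hn : 3 ≤ n) (hS : S.IsPrim) (p : ℕ) [Fact p.Prime] (hpn : p ∣ n)
    (href : ∀ T, S.IsSet T → ∀ j u : ZMod n, p • u = 0 → (sr j ∈ T ↔ sr (j + u) ∈ T))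
    (T : Finset (DihedralGroup n)) (hT : S.IsSet T) : PerOff p (rotPart T) := by
  have hinv := isSet_inv_mem S hS hT
  have hB := href T hT
  by_cases hp2 : p = 2
  · subst hp2
    exact R1a_core S 2 hpn (F1 S hS) T hT (coeff_sq_ref T hinv) (coeff_sq_rot hpn T hinv hB)
  · exact R1a_core S p hpn (F1 S hS) T hT
      (Cfsg.Agent.Helper67.Sr.coeff_pow_ref T hinv p hp2 hpn hB)
      (Cfsg.Agent.Helper61.Dih.coeff_pow_rot T hinv p hp2)

end Cfsg.Agent.Helper34.Sr
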